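import Groth.Agent.Lib.Lead.Chow.Exists

/-! # Chow's lemma for integral schemes proper over a noetherian ring. -/

set_option autoImplicit false
universe u
open CategoryTheory Limits AlgebraicGeometry TopologicalSpace

namespace Groth.Agent.LD.Chow

variable (A : Type u) [CommRing A] [IsNoetherianRing A]

/-- **Chow's lemma.** For an integral scheme `Z` proper over a noetherian ring `A` there are a
closed subscheme `Z'` of `Z ×_A P^N_A` mapping to `P^N_A` by a closed immersion and to `Z` by a
morphism which is an isomorphism over a nonempty open of `Z`. -/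
theorem chow_lemma {Z : Scheme.{u}} [IsIntegral Z] (f : Z ⟶ Spec (CommRingCat.of A))
    [IsProper f] :
    ∃ (N : ℕ) (Z' : Scheme.{u}) (c : Z' ⟶ pullback f (pStr N A)) (X₀ : Z.Opens),
      IsClosedImmersion c ∧ IsClosedImmersion (c ≫ pullback.snd f (pStr N A)) ∧
        (X₀ : Set Z).Nonempty ∧ IsIso ((c ≫ pullback.fst f (pStr N A)) ∣_ X₀) := by
  haveI : CompactSpace Z := (quasiCompact_iff_compactSpace f).mp inferInstance
  obtain ⟨d, hd⟩ := exists_chowData f
  haveI : IsLocallyNoetherian Z := LocallyOfFiniteType.isLocallyNoetherian f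
  haveI : IsNoetherian Z := {}
  haveI : NoetherianSpace d.X₀.toScheme := by
    change NoetherianSpace (d.X₀ : Set Z)
    infer_instance
  haveI : QuasiCompact d.ψ := inferInstance
  exact ⟨d.N, gcl f (pStr d.N A) d.X₀ d.ψ, d.ψ.imageι, d.X₀, inferInstance,
    d.isClosedImmersion_gq, hd, d.isIso_gπ_restrict⟩

end Groth.Agent.LD.Chow
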