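import Mathlib

/-! # Sections of `Proj` over basic opens and morphisms `Proj.fromOfGlobalSections`. -/

set_option autoImplicit false
universe u
open CategoryTheory Limits AlgebraicGeometry TopologicalSpace HomogeneousLocalization

namespace Groth.Agent.LD.Chow

variable {σ : Type*} {A : Type u} [CommRing A] [SetLike σ A] [AddSubgroupClass σ A]
  (𝒜 : ℕ → σ) [GradedRing 𝒜]

/-- the fraction `s / r` for `r s` homogeneous of the same degree. -/
noncomputable abbrev frac {n : ℕ} {r s : A} (hr : r ∈ 𝒜 n) (hs : s ∈ 𝒜 n) : Away 𝒜 r :=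
  Away.mk 𝒜 hr 1 s (by simpa using hs)

lemma isLocalizationElem_eq_frac_pow {n : ℕ} {r s : A} (hr : r ∈ 𝒜 n) (hs : s ∈ 𝒜 n) :
    Away.isLocalizationElem hr hs = frac 𝒜 hr hs ^ n := by
  apply HomogeneousLocalization.val_injective
  rw [HomogeneousLocalization.val_pow, Away.val_mk, Away.val_mk, Localization.mk_pow]
  congr 1
  ext
  simp

/-- the non-vanishing locus of the section `s / r` of `Proj` over `D₊(r)` lies in `D₊(s)`. -/
theorem basicOpen_awayToSection_le {n : ℕ} (hn : 0 < n) {r s : A} (hr : r ∈ 𝒜 n) (hs : s ∈ 𝒜 n) :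
    (Proj 𝒜).basicOpen (Proj.awayToSection 𝒜 r (frac 𝒜 hr hs)) ≤ Proj.basicOpen 𝒜 s := by
  set D := Proj.basicOpen 𝒜 r with hD
  set a := frac 𝒜 hr hs with ha
  let B := Proj.basicOpenIsoSpec 𝒜 r hr hn
  let a' : Γ(Spec (.of (Away 𝒜 r)), ⊤) := (Scheme.ΓSpecIso (.of (Away 𝒜 r))).inv a
  have h1 : B.hom.app ⊤ a' = D.topIso.inv (Proj.awayToSection 𝒜 r a) := by
    have := Proj.basicOpenToSpec_app_top 𝒜 r
    have h2 := congr($(this) a')
    refine h2.trans ?_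
    change D.topIso.inv.hom ((Proj.awayToSection 𝒜 r).hom
      ((Scheme.ΓSpecIso (.of (Away 𝒜 r))).hom.hom ((Scheme.ΓSpecIso (.of (Away 𝒜 r))).inv.hom a))) = _
    have h5 : (Scheme.ΓSpecIso (.of (Away 𝒜 r))).hom.hom
        ((Scheme.ΓSpecIso (.of (Away 𝒜 r))).inv.hom a) = a := by
      rw [← RingHom.comp_apply, ← CommRingCat.hom_comp, Iso.inv_hom_id]; rfl
    rw [h5]
  -- `P.basicOpen σ = D.ι ''ᵁ (B.hom ⁻¹ᵁ basicOpen a)`
  have h3 : (Proj 𝒜).basicOpen (Proj.awayToSection 𝒜 r a) =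
      D.ι ''ᵁ (B.hom ⁻¹ᵁ ((Spec (.of (Away 𝒜 r))).basicOpen a')) := by
    rw [Scheme.preimage_basicOpen, h1]
    exact (Scheme.Opens.ι_image_basicOpen_topIso_inv D _).symm
  rw [h3]
  rintro _ ⟨y, hy, rfl⟩
  have hy' : B.hom y ∈ (Spec (.of (Away 𝒜 r))).basicOpen a' := hy
  have hιy : D.ι y = Proj.awayι 𝒜 r hr hn (B.hom y) := by
    change _ = (B.inv ≫ D.ι) (B.hom y)
    rw [Scheme.Hom.comp_apply]
    congr 1
    change y = (B.hom ≫ B.inv) y
    rw [Iso.hom_inv_id]; rfl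
  change D.ι y ∈ Proj.basicOpen 𝒜 s
  rw [hιy]
  change B.hom y ∈ Proj.awayι 𝒜 r hr hn ⁻¹ᵁ Proj.basicOpen 𝒜 s
  rw [Proj.awayι_preimage_basicOpen 𝒜 hr hn hs hn, isLocalizationElem_eq_frac_pow]
  have h4 : (Spec (.of (Away 𝒜 r))).basicOpen a' = PrimeSpectrum.basicOpen a :=
    basicOpen_eq_of_affine (R := CommRingCat.of (Away 𝒜 r)) a
  rw [h4] at hy'
  rw [PrimeSpectrum.basicOpen_pow _ _ hn]
  exact hy'

section G2

variable {X : Scheme.{u}} (g : A →+* Γ(X, ⊤))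
  (hg : (HomogeneousIdeal.irrelevant 𝒜).toIdeal.map g = ⊤)

theorem fromOfGlobalSections_appLE_frac {n : ℕ} (hn : 0 < n) {r s : A} (hr : r ∈ 𝒜 n)
    (hs : s ∈ 𝒜 n) :
    (Proj.fromOfGlobalSections 𝒜 g hg).appLE (Proj.basicOpen 𝒜 r) (X.basicOpen (g r))
        (Proj.fromOfGlobalSections_preimage_basicOpen 𝒜 g hg hn hr).ge
        (Proj.awayToSection 𝒜 r (frac 𝒜 hr hs)) *
      X.presheaf.map (homOfLE (le_top : X.basicOpen (g r) ≤ ⊤)).op (g r) =
      X.presheaf.map (homOfLE (le_top : X.basicOpen (g r) ≤ ⊤)).op (g s) := by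
  have hres := Proj.fromOfGlobalSections_resLE 𝒜 g hg hn hr
  have h1 := Scheme.Hom.resLE_app_top (Proj.fromOfGlobalSections 𝒜 g hg)
    (U := Proj.basicOpen 𝒜 r) (V := X.basicOpen (g r))
    (Proj.fromOfGlobalSections_preimage_basicOpen 𝒜 g hg hn hr).ge
  rw [hres] at h1
  unfold Proj.toBasicOpenOfGlobalSections at h1
  set φ := Proj.fromOfGlobalSections 𝒜 g hg with hφ
  set D := Proj.basicOpen 𝒜 r with hD
  set Y := X.basicOpen (g r) with hY
  set L := Localization.Away (g r) with hL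
  set τ : Y.toScheme ⟶ Spec (.of L) := (X.isoOfEq (X.toSpecΓ_preimage_basicOpen (g r))).inv ≫
    X.toSpecΓ ∣_ PrimeSpectrum.basicOpen (g r) ≫ (basicOpenIsoSpecAway (g r)).hom with hτ
  set μ : Away 𝒜 r →+* L := (IsLocalization.map L g
    (show Submonoid.powers r ≤ (Submonoid.powers (g r)).comap g by
      rw [← Submonoid.map_le_iff_le_comap, Submonoid.map_powers])).comp
    (algebraMap (Away 𝒜 r) (Localization.Away r)) with hμ
  set B := Proj.basicOpenIsoSpec 𝒜 r hr hn with hB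
  have h1' : D.topIso.hom ≫ φ.appLE D Y
      (Proj.fromOfGlobalSections_preimage_basicOpen 𝒜 g hg hn hr).ge ≫ Y.topIso.inv =
      B.inv.appTop ≫ (Spec.map (CommRingCat.ofHom μ)).appTop ≫ τ.appTop := by
    rw [← h1]
    change ((τ ≫ Spec.map (CommRingCat.ofHom μ)) ≫ B.inv).appTop = _
    rw [Scheme.Hom.comp_appTop, Scheme.Hom.comp_appTop]
  -- the key property of `τ`
  have hτ1 : τ ≫ Spec.map (CommRingCat.ofHom (algebraMap Γ(X, ⊤) L)) = Y.ι ≫ X.toSpecΓ := by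
    rw [hτ, Category.assoc, Category.assoc, basicOpenIsoSpecAway_hom_SpecMap, morphismRestrict_ι,
      ← Category.assoc, Scheme.isoOfEq_inv_ι]
  let Θc : CommRingCat.of L ⟶ Γ(Y.toScheme, ⊤) := (Scheme.ΓSpecIso (.of L)).inv ≫ τ.appTop
  have hΘ : CommRingCat.ofHom (algebraMap Γ(X, ⊤) L) ≫ Θc = Y.ι.appTop := by
    change _ ≫ (Scheme.ΓSpecIso (.of L)).inv ≫ τ.appTop = _
    rw [Scheme.ΓSpecIso_inv_naturality_assoc, ← Scheme.Hom.comp_appTop, hτ1,
      Scheme.Hom.comp_appTop, Scheme.toSpecΓ_appTop]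
    exact Iso.inv_hom_id_assoc (Scheme.ΓSpecIso Γ(X, ⊤)) _
  have hsec : Proj.awayToSection 𝒜 r = (Scheme.ΓSpecIso (.of (Away 𝒜 r))).inv ≫ B.hom.appTop ≫
      D.topIso.hom := by
    have := Proj.basicOpenToSpec_app_top 𝒜 r
    change B.hom.appTop = _ at this
    rw [this, Category.assoc, Category.assoc, Iso.inv_hom_id, Category.comp_id,
      Iso.inv_hom_id_assoc]
  have hBB : B.hom.appTop ≫ B.inv.appTop = 𝟙 _ := by
    rw [← Scheme.Hom.comp_appTop, Iso.inv_hom_id]; rfl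
  have hmain : Proj.awayToSection 𝒜 r ≫ φ.appLE D Y
      (Proj.fromOfGlobalSections_preimage_basicOpen 𝒜 g hg hn hr).ge =
      CommRingCat.ofHom μ ≫ Θc ≫ Y.topIso.hom := by
    have h2 : D.topIso.hom ≫ φ.appLE D Y
        (Proj.fromOfGlobalSections_preimage_basicOpen 𝒜 g hg hn hr).ge =
        (B.inv.appTop ≫ (Spec.map (CommRingCat.ofHom μ)).appTop ≫ τ.appTop) ≫ Y.topIso.hom := by
      rw [← h1', Category.assoc, Category.assoc, Iso.inv_hom_id, Category.comp_id]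
    rw [hsec, Category.assoc, Category.assoc, h2]
    change _ = CommRingCat.ofHom μ ≫ ((Scheme.ΓSpecIso (.of L)).inv ≫ τ.appTop) ≫ Y.topIso.hom
    simp only [Category.assoc]
    rw [Scheme.ΓSpecIso_inv_naturality_assoc, reassoc_of% hBB]
  have hd : μ (frac 𝒜 hr hs) * algebraMap Γ(X, ⊤) L (g r) = algebraMap Γ(X, ⊤) L (g s) := by
    rw [hμ, RingHom.comp_apply, HomogeneousLocalization.algebraMap_apply, Away.val_mk,
      Localization.mk_eq_mk', IsLocalization.map_mk']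
    have := IsLocalization.mk'_spec (M := Submonoid.powers (g r)) L (g s)
      ⟨g (r ^ 1), by rw [map_pow, pow_one]; exact Submonoid.mem_powers _⟩
    simpa [pow_one] using this
  have hres2 : ∀ c : Γ(X, ⊤), (X.presheaf.map (homOfLE (le_top : Y ≤ ⊤)).op).hom c =
      Y.topIso.hom.hom (Y.ι.appTop.hom c) := by
    intro c
    rw [Scheme.Opens.ι_appTop]
    change _ = (X.presheaf.map _ ≫ X.presheaf.map _).hom c
    rw [← Functor.map_comp]
    rfl
  have e1 := congr($(hmain).hom (frac 𝒜 hr hs))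
  change (φ.appLE D Y _).hom ((Proj.awayToSection 𝒜 r).hom (frac 𝒜 hr hs)) =
    Y.topIso.hom.hom (Θc.hom (μ (frac 𝒜 hr hs))) at e1
  have e2 : ∀ c : Γ(X, ⊤), Θc.hom (algebraMap Γ(X, ⊤) L c) = Y.ι.appTop.hom c := fun c =>
    congr($(hΘ).hom c)
  change (φ.appLE D Y _).hom ((Proj.awayToSection 𝒜 r).hom (frac 𝒜 hr hs)) *
    (X.presheaf.map (homOfLE (le_top : Y ≤ ⊤)).op).hom (g r) =
    (X.presheaf.map (homOfLE (le_top : Y ≤ ⊤)).op).hom (g s)
  rw [e1, hres2, hres2, ← e2, ← e2, ← map_mul, ← map_mul, hd]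

end G2

end Groth.Agent.LD.Chow
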