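import Mathlib

/-! # Morphisms to `Spec A[t₁,…,tₙ]` over `Spec A`. -/

set_option autoImplicit false
universe u
open CategoryTheory Limits AlgebraicGeometry TopologicalSpace

namespace Groth.Agent.LD.Chow

variable (A : Type u) [CommRing A]

/-- the ring map `A → Γ(Y, O)` of a morphism `Y ⟶ Spec A`. -/
noncomputable def strOf {Y : Scheme.{u}} (h : Y ⟶ Spec (CommRingCat.of A)) : A →+* Γ(Y, ⊤) :=
  h.appTop.hom.comp (Scheme.ΓSpecIso (CommRingCat.of A)).inv.hom

variable {A}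

lemma strOf_comp {Y Y' : Scheme.{u}} (k : Y' ⟶ Y) (h : Y ⟶ Spec (CommRingCat.of A)) (a : A) :
    strOf A (k ≫ h) a = k.appTop.hom (strOf A h a) := rfl

lemma toSpecΓ_strOf {Y : Scheme.{u}} (h : Y ⟶ Spec (CommRingCat.of A)) :
    Y.toSpecΓ ≫ Spec.map (CommRingCat.ofHom (strOf A h)) = h := by
  have : CommRingCat.ofHom (strOf A h) = (Scheme.ΓSpecIso (CommRingCat.of A)).inv ≫ h.appTop := rfl
  rw [this, Spec.map_comp, ← Scheme.toSpecΓ_naturality_assoc, toSpecΓ_SpecMap_ΓSpecIso_inv,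
    Category.comp_id]

/-- the morphism to affine `n`-space over `Spec A` with given coordinates. -/
noncomputable def toAff {Y : Scheme.{u}} (h : Y ⟶ Spec (CommRingCat.of A)) {n : ℕ}
    (v : Fin n → Γ(Y, ⊤)) : Y ⟶ Spec (CommRingCat.of (MvPolynomial (Fin n) A)) :=
  Y.toSpecΓ ≫ Spec.map (CommRingCat.ofHom (MvPolynomial.eval₂Hom (strOf A h) v))

/-- the structure morphism of affine space. -/
noncomputable def affStr (n : ℕ) :
    Spec (CommRingCat.of (MvPolynomial (Fin n) A)) ⟶ Spec (CommRingCat.of A) :=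
  Spec.map (CommRingCat.ofHom (MvPolynomial.C))

lemma toAff_over {Y : Scheme.{u}} (h : Y ⟶ Spec (CommRingCat.of A)) {n : ℕ}
    (v : Fin n → Γ(Y, ⊤)) : toAff h v ≫ affStr n = h := by
  rw [toAff, affStr, Category.assoc, ← Spec.map_comp, ← CommRingCat.ofHom_comp]
  have : (MvPolynomial.eval₂Hom (strOf A h) v).comp MvPolynomial.C = strOf A h := by
    ext a; simp
  rw [this, toSpecΓ_strOf]

lemma comp_toAff {Y Y' : Scheme.{u}} (k : Y' ⟶ Y) (h : Y ⟶ Spec (CommRingCat.of A)) {n : ℕ}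
    (v : Fin n → Γ(Y, ⊤)) :
    k ≫ toAff h v = toAff (k ≫ h) (fun l => k.appTop.hom (v l)) := by
  rw [toAff, toAff, Scheme.toSpecΓ_naturality_assoc, ← Spec.map_comp]
  congr 2
  ext : 1
  apply MvPolynomial.ringHom_ext
  · intro a
    simp [strOf_comp]
  · intro l
    simp

lemma toAff_congr {Y : Scheme.{u}} {h h' : Y ⟶ Spec (CommRingCat.of A)} (e : h = h') {n : ℕ}
    {v v' : Fin n → Γ(Y, ⊤)} (ev : ∀ l, v l = v' l) : toAff h v = toAff h' v' := by
  subst e
  rw [funext ev]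

lemma isClosedImmersion_toAff {Y : Scheme.{u}} [IsAffine Y] (h : Y ⟶ Spec (CommRingCat.of A))
    {n : ℕ} (v : Fin n → Γ(Y, ⊤))
    (hs : Function.Surjective (MvPolynomial.eval₂Hom (strOf A h) v)) :
    IsClosedImmersion (toAff h v) := by
  haveI : IsClosedImmersion
      (Spec.map (CommRingCat.ofHom (MvPolynomial.eval₂Hom (strOf A h) v))) :=
    IsClosedImmersion.spec_of_surjective _ hs
  unfold toAff
  infer_instance

end Groth.Agent.LD.Chow
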