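import Groth.Agent.Lib.Lead.Chow.Core
import Groth.Agent.Lib.Lead.Chow.Aff

/-! # Chart criterion for closed immersions, in terms of generators. -/

set_option autoImplicit false
universe u
open CategoryTheory Limits AlgebraicGeometry TopologicalSpace

namespace Groth.Agent.LD.Chow

variable {A : Type u} [CommRing A] {Z P : Scheme.{u}} (f : Z ⟶ Spec (CommRingCat.of A))
  (s : P ⟶ Spec (CommRingCat.of A)) (X₀ : Z.Opens)
  (ψ : X₀.toScheme ⟶ pullback f s) (hψ : ψ ≫ pullback.fst f s = X₀.ι) [QuasiCompact ψ]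

lemma resLE_appTop_topIso_inv {X Y : Scheme.{u}} (g : X ⟶ Y) (U : Y.Opens) (V : X.Opens)
    (e : V ≤ g ⁻¹ᵁ U) (b : Γ(Y, U)) :
    (g.resLE U V e).appTop.hom (U.topIso.inv.hom b) = V.topIso.inv.hom ((g.appLE U V e).hom b) := by
  have h : U.topIso.inv ≫ (g.resLE U V e).appTop = g.appLE U V e ≫ V.topIso.inv := by
    rw [Scheme.Hom.appTop, Scheme.Hom.resLE_app_top, Iso.inv_hom_id_assoc]
  exact congrArg (fun φ => φ.hom b) h

include hψ in
/-- **chart criterion with generators**: if `U ⊇ X₀` is an affine open whose ring is generated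
over `A` by `β₁, …, βₙ`, and over the open `D` of `P` these are pulled back from functions
`ρ₁, …, ρₙ` on `D`, then the closure of the graph maps to `P` by a closed immersion over `D`. -/
theorem isClosedImmersion_gq_restrict_of_gens [IsSeparated f] (U : Z.Opens)
    (hUaff : IsAffineOpen U) (hU : X₀ ≤ U) (D : P.Opens) {n : ℕ} (β : Fin n → Γ(Z, U))
    (hβ : Function.Surjective (MvPolynomial.eval₂Hom (strOf A (U.ι ≫ f))
      (fun l => U.topIso.inv.hom (β l))))
    (ρ : Fin n → Γ(P, D))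
    (hle : ψ ⁻¹ᵁ (pullback.snd f s ⁻¹ᵁ D) ≤ (ψ ≫ pullback.fst f s) ⁻¹ᵁ U)
    (h : ∀ l, ((ψ ≫ pullback.fst f s).appLE U (ψ ⁻¹ᵁ (pullback.snd f s ⁻¹ᵁ D)) hle).hom (β l) =
      ((ψ ≫ pullback.snd f s).appLE D (ψ ⁻¹ᵁ (pullback.snd f s ⁻¹ᵁ D)) le_rfl).hom (ρ l)) :
    IsClosedImmersion (gq f s X₀ ψ ∣_ D) := by
  haveI : IsAffine U.toScheme := hUaff
  haveI : IsClosedImmersion (toAff (U.ι ≫ f) (fun l => U.topIso.inv.hom (β l))) :=
    isClosedImmersion_toAff _ _ hβ
  refine isClosedImmersion_gq_restrict f s X₀ ψ hψ U hU D (affStr n)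
    (toAff (U.ι ≫ f) (fun l => U.topIso.inv.hom (β l))) (toAff_over _ _)
    (toAff (D.ι ≫ s) (fun l => D.topIso.inv.hom (ρ l))) (toAff_over _ _) ?_
  set Y := ψ ⁻¹ᵁ (pullback.snd f s ⁻¹ᵁ D) with hY
  have e1 : Y.ι ≫ Z.homOfLE hU = (ψ ≫ pullback.fst f s).resLE U Y hle := by
    rw [← cancel_mono U.ι, Category.assoc, Scheme.homOfLE_ι, Scheme.Hom.resLE_comp_ι, hψ]
  have e2 : (ψ ∣_ (pullback.snd f s ⁻¹ᵁ D)) ≫ (pullback.snd f s ∣_ D) =
      (ψ ≫ pullback.snd f s).resLE D Y le_rfl := by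
    rw [← cancel_mono D.ι, Category.assoc, morphismRestrict_ι, ← Category.assoc,
      morphismRestrict_ι, Scheme.Hom.resLE_comp_ι, Category.assoc]
  rw [← Category.assoc, ← Category.assoc, e1, e2, comp_toAff, comp_toAff]
  apply toAff_congr
  · rw [← Category.assoc, ← Category.assoc, Scheme.Hom.resLE_comp_ι, Scheme.Hom.resLE_comp_ι,
      Category.assoc, Category.assoc, Category.assoc, Category.assoc, pullback.condition]
  · intro l
    rw [resLE_appTop_topIso_inv, resLE_appTop_topIso_inv, h l]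

end Groth.Agent.LD.Chow
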