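import Groth.Agent.Lib.Lead.Chow.Setup

/-! # Chow's lemma: the charts. -/

set_option autoImplicit false
universe u
open CategoryTheory Limits AlgebraicGeometry TopologicalSpace

namespace Groth.Agent.LD.Chow

variable {A : Type u} [CommRing A] {Z : Scheme.{u}} {f : Z ⟶ Spec (CommRingCat.of A)}

namespace ChowData

variable (d : ChowData f)

/-- the standard charts of projective space. -/
noncomputable def D (j : Fin (d.N + 1)) : (Proj (CohB1.polyGrading d.N A)).Opens :=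
  Proj.basicOpen (CohB1.polyGrading d.N A) (MvPolynomial.X j)

lemma iSup_D : ⨆ j, d.D j = ⊤ := by
  rw [eq_top_iff, ← PN.iSup_UU d.N A]
  refine iSup_le fun j => ?_
  exact le_iSup_of_le j.down le_rfl

lemma φ_preimage_D (j : Fin (d.N + 1)) :
    d.φ ⁻¹ᵁ d.D j = d.X₀.toScheme.basicOpen (d.zW (d.e j)) := by
  rw [← d.g_X j]
  exact Proj.fromOfGlobalSections_preimage_basicOpen _ _ _ one_pos (PN.X_mem j)

/-- the coordinate function `X_{j'} / X_j` on the chart `D j`. -/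
noncomputable def ρ (j j' : Fin (d.N + 1)) : Γ(Proj (CohB1.polyGrading d.N A), d.D j) :=
  Proj.awayToSection (CohB1.polyGrading d.N A) (MvPolynomial.X j)
    (frac (CohB1.polyGrading d.N A) (PN.X_mem j) (PN.X_mem j'))

lemma basicOpen_ρ_le (j j' : Fin (d.N + 1)) :
    (Proj (CohB1.polyGrading d.N A)).basicOpen (d.ρ j j') ≤ d.D j' :=
  basicOpen_awayToSection_le _ one_pos (PN.X_mem j) (PN.X_mem j')

/-- the pull-back of `X_{j'} / X_j` is `z_{j'} / z_j`. -/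
lemma φ_appLE_ρ (j j' : Fin (d.N + 1)) (Y : d.X₀.toScheme.Opens) (hY : Y ≤ d.φ ⁻¹ᵁ d.D j) :
    (d.φ.appLE (d.D j) Y hY).hom (d.ρ j j') *
      (d.X₀.toScheme.presheaf.map (homOfLE (le_top : Y ≤ ⊤)).op).hom (d.zW (d.e j)) =
    (d.X₀.toScheme.presheaf.map (homOfLE (le_top : Y ≤ ⊤)).op).hom (d.zW (d.e j')) := by
  have hY' : Y ≤ d.X₀.toScheme.basicOpen (d.g (MvPolynomial.X j)) := by
    rw [d.g_X j, ← d.φ_preimage_D j]; exact hY
  rw [← d.g_X j, ← d.g_X j']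
  have h := fromOfGlobalSections_appLE_frac (CohB1.polyGrading d.N A) d.g d.hg one_pos
    (PN.X_mem j) (PN.X_mem j')
  have h2 := congrArg (d.X₀.toScheme.presheaf.map (homOfLE hY').op).hom h
  rw [map_mul] at h2
  have e1 := Scheme.Hom.appLE_map d.φ
    (Proj.fromOfGlobalSections_preimage_basicOpen (CohB1.polyGrading d.N A) d.g d.hg one_pos
      (PN.X_mem j)).ge (homOfLE hY').op
  have e1' := congrArg (fun t => t.hom (d.ρ j j')) e1
  have e2 : ∀ x : Γ(d.X₀.toScheme, ⊤),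
      (d.X₀.toScheme.presheaf.map (homOfLE hY').op).hom
        ((d.X₀.toScheme.presheaf.map (homOfLE (le_top :
          d.X₀.toScheme.basicOpen (d.g (MvPolynomial.X j)) ≤ ⊤)).op).hom x) =
      (d.X₀.toScheme.presheaf.map (homOfLE (le_top : Y ≤ ⊤)).op).hom x := by
    intro x
    change (d.X₀.toScheme.presheaf.map (homOfLE _).op ≫
      d.X₀.toScheme.presheaf.map (homOfLE hY').op).hom x = _
    rw [← Functor.map_comp]
    rfl
  rw [e2, e2] at h2
  exact e1'.symm ▸ h2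

lemma ι_appLE_b (i : Fin d.k) (l : Fin (d.m i + 1)) (Y : d.X₀.toScheme.Opens)
    (hY : Y ≤ d.X₀.ι ⁻¹ᵁ d.U i) :
    (d.X₀.ι.appLE (d.U i) Y hY).hom (d.b i l) =
      (d.X₀.toScheme.presheaf.map (homOfLE (le_top : Y ≤ ⊤)).op).hom (d.cX i l) := by
  have e1 := Scheme.Hom.appLE_map d.X₀.ι (d.top_le i) (homOfLE (le_top : Y ≤ ⊤)).op
  exact (congrArg (fun t => t.hom (d.b i l)) e1).symm

lemma isUnit_res_zW (j : Fin (d.N + 1)) (Y : d.X₀.toScheme.Opens) (hY : Y ≤ d.φ ⁻¹ᵁ d.D j) :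
    IsUnit ((d.X₀.toScheme.presheaf.map (homOfLE (le_top : Y ≤ ⊤)).op).hom (d.zW (d.e j))) := by
  have hY' : Y ≤ d.X₀.toScheme.basicOpen (d.zW (d.e j)) := by
    rw [← d.φ_preimage_D j]; exact hY
  have h1 := d.X₀.toScheme.toRingedSpace.isUnit_res_basicOpen (d.zW (d.e j))
  have h2 := h1.map (d.X₀.toScheme.presheaf.map (homOfLE hY').op).hom
  convert h2 using 1
  change _ = (d.X₀.toScheme.presheaf.map (homOfLE _).op ≫
      d.X₀.toScheme.presheaf.map (homOfLE hY').op).hom _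
  rw [← Functor.map_comp]
  rfl

/-- **chart shifting**: over `U i`, the closure of the graph lies in the charts `D j` whose
index has `i`-th component `0`. -/
theorem gπ_inf_gq_D_le [QuasiCompact d.ψ] (i : Fin d.k) (j : Fin (d.N + 1)) :
    gπ f (pStr d.N A) d.X₀ d.ψ ⁻¹ᵁ d.U i ⊓ gq f (pStr d.N A) d.X₀ d.ψ ⁻¹ᵁ d.D j ≤
      gq f (pStr d.N A) d.X₀ d.ψ ⁻¹ᵁ d.D (d.e.symm (Function.update (d.e j) i 0)) := by
  set j' := d.e.symm (Function.update (d.e j) i 0) with hj'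
  refine gπ_inf_gq_le f (pStr d.N A) d.X₀ d.ψ (d.U i) (d.D j) (d.D j') (d.ρ j j')
    (d.basicOpen_ρ_le j j') (d.b i (d.e j i)) ?_
  set Y := d.ψ ⁻¹ᵁ (pullback.fst f (pStr d.N A) ⁻¹ᵁ d.U i ⊓
    pullback.snd f (pStr d.N A) ⁻¹ᵁ d.D j) with hYdef
  have hY1 : Y ≤ d.φ ⁻¹ᵁ d.D j := by
    intro x hx
    have := hx.2
    rw [← d.ψ_snd]
    exact this
  have hY2 : Y ≤ d.X₀.ι ⁻¹ᵁ d.U i := fun x _ => d.le_U i x.2
  rw [appLE_of_eq d.ψ_snd, appLE_of_eq d.ψ_fst]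
  change (d.φ.appLE (d.D j) Y hY1).hom (d.ρ j j') * (d.X₀.ι.appLE (d.U i) Y hY2).hom _ = 1
  rw [d.ι_appLE_b i _ Y hY2]
  have h1 := d.φ_appLE_ρ j j' Y hY1
  have h2 := d.zW_update (d.e j) i 0
  rw [d.cX_zero, mul_one] at h2
  have h3 : d.e j' = Function.update (d.e j) i 0 := by rw [hj', Equiv.apply_symm_apply]
  rw [← h3] at h2
  have h4 := congrArg (d.X₀.toScheme.presheaf.map (homOfLE (le_top : Y ≤ ⊤)).op).hom h2
  rw [map_mul] at h4
  have hu := d.isUnit_res_zW j Y hY1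
  apply hu.mul_left_injective
  beta_reduce
  rw [one_mul, mul_assoc, mul_comm _ ((d.X₀.toScheme.presheaf.map _).hom (d.zW (d.e j))),
    ← mul_assoc, h1, h4]

/-- **the charts with a vanishing index component are closed immersions.** -/
theorem isClosedImmersion_gq_restrict_D [QuasiCompact d.ψ] [IsSeparated f] (i : Fin d.k)
    (j : Fin (d.N + 1)) (hj : d.e j i = 0) :
    IsClosedImmersion (gq f (pStr d.N A) d.X₀ d.ψ ∣_ d.D j) := by
  set Y := d.ψ ⁻¹ᵁ (pullback.snd f (pStr d.N A) ⁻¹ᵁ d.D j) with hYdef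
  have hY1 : Y ≤ d.φ ⁻¹ᵁ d.D j := by
    intro x hx
    rw [← d.ψ_snd]
    exact hx
  have hY2 : Y ≤ d.X₀.ι ⁻¹ᵁ d.U i := fun x _ => d.le_U i x.2
  have hle : Y ≤ (d.ψ ≫ pullback.fst f (pStr d.N A)) ⁻¹ᵁ d.U i := by
    rw [d.ψ_fst]; exact hY2
  refine isClosedImmersion_gq_restrict_of_gens f (pStr d.N A) d.X₀ d.ψ d.ψ_fst (d.U i)
    (d.isAffineOpen i) (d.le_U i) (d.D j) (fun l : Fin (d.m i) => d.b i l.succ) (d.b_surj i)
    (fun l => d.ρ j (d.e.symm (Function.update (d.e j) i l.succ))) hle ?_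
  intro l
  set j' := d.e.symm (Function.update (d.e j) i l.succ) with hj'
  rw [appLE_of_eq d.ψ_snd, appLE_of_eq d.ψ_fst]
  change (d.X₀.ι.appLE (d.U i) Y hY2).hom _ = (d.φ.appLE (d.D j) Y hY1).hom (d.ρ j j')
  rw [d.ι_appLE_b i _ Y hY2]
  have h1 := d.φ_appLE_ρ j j' Y hY1
  have h2 := d.zW_update (d.e j) i l.succ
  rw [hj, d.cX_zero, mul_one] at h2
  have h3 : d.e j' = Function.update (d.e j) i l.succ := by rw [hj', Equiv.apply_symm_apply]
  rw [← h3] at h2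
  have h4 := congrArg (d.X₀.toScheme.presheaf.map (homOfLE (le_top : Y ≤ ⊤)).op).hom h2
  rw [map_mul] at h4
  have hu := d.isUnit_res_zW j Y hY1
  apply hu.mul_left_injective
  beta_reduce
  rw [h1, h4, mul_comm]

end ChowData

end Groth.Agent.LD.Chow
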