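import Groth.Agent.Lib.Lead.Chow.Ker

/-! # The closure of the graph of a partially defined morphism: abstract core of Chow's lemma. -/

set_option autoImplicit false
universe u
open CategoryTheory Limits AlgebraicGeometry TopologicalSpace

namespace Groth.Agent.LD.Chow

variable {S Z P : Scheme.{u}} (f : Z ⟶ S) (s : P ⟶ S) (X₀ : Z.Opens)
  (ψ : X₀.toScheme ⟶ pullback f s) (hψ : ψ ≫ pullback.fst f s = X₀.ι) [QuasiCompact ψ]

/-- the closure of the graph. -/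
noncomputable abbrev gcl : Scheme.{u} := ψ.image
/-- the projection to `Z`. -/
noncomputable abbrev gπ : gcl f s X₀ ψ ⟶ Z := ψ.imageι ≫ pullback.fst f s
/-- the projection to `P`. -/
noncomputable abbrev gq : gcl f s X₀ ψ ⟶ P := ψ.imageι ≫ pullback.snd f s

include hψ in
/-- **the projection from the closure of the graph is an isomorphism over the domain of
definition.** -/
theorem isIso_gπ_restrict [IsSeparated s] : IsIso (gπ f s X₀ ψ ∣_ X₀) := by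
  let V : (pullback f s).Opens := pullback.fst f s ⁻¹ᵁ X₀
  have hrange : Set.range ψ ⊆ Set.range V.ι := by
    rw [Scheme.Opens.range_ι]
    rintro _ ⟨x, rfl⟩
    change (ψ ≫ pullback.fst f s) x ∈ X₀
    rw [hψ]
    exact x.2
  let κ : X₀.toScheme ⟶ V.toScheme := IsOpenImmersion.lift V.ι ψ hrange
  have hκ : κ ≫ V.ι = ψ := IsOpenImmersion.lift_fac _ _ _
  have hκ1 : κ ≫ (pullback.fst f s ∣_ X₀) = 𝟙 _ := by
    rw [← cancel_mono X₀.ι, Category.assoc, morphismRestrict_ι, ← Category.assoc, hκ, hψ,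
      Category.id_comp]
  haveI : IsClosedImmersion (κ ≫ (pullback.fst f s ∣_ X₀)) := by rw [hκ1]; infer_instance
  haveI : IsClosedImmersion κ := IsClosedImmersion.of_comp κ (pullback.fst f s ∣_ X₀)
  have htop : ψ ⁻¹ᵁ V = ⊤ := by
    ext x
    simp only [Opens.coe_top, Set.mem_univ, iff_true]
    change (ψ ≫ pullback.fst f s) x ∈ X₀
    rw [hψ]
    exact x.2
  let a : (ψ ⁻¹ᵁ V).toScheme ⟶ X₀.toScheme := (ψ ⁻¹ᵁ V).ι
  haveI : IsIso a := by
    have : a = (X₀.toScheme.isoOfEq htop).hom ≫ (Scheme.topIso _).hom := by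
      simp [a]
    rw [this]; infer_instance
  have ha : a ≫ κ = ψ ∣_ V := by
    rw [← cancel_mono V.ι, Category.assoc, hκ, morphismRestrict_ι]
  obtain ⟨ℓ, hℓ, hℓκ⟩ := exists_iso_of_factor ψ V κ a ha
  have : gπ f s X₀ ψ ∣_ X₀ = ℓ := by
    change (ψ.imageι ≫ pullback.fst f s) ∣_ X₀ = ℓ
    rw [morphismRestrict_comp]
    change ψ.imageι ∣_ V ≫ _ = ℓ
    rw [← hℓκ, Category.assoc, hκ1, Category.comp_id]
  rw [this]
  exact hℓ

include hψ in
/-- **chart criterion: the projection from the closure of the graph to `P` is a closed immersion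
over an open `D` of `P`, provided that on `φ⁻¹ D` the partially defined morphism is "the graph of a
morphism `D → E`" for a closed immersion `U → E` of an open `U ⊇ X₀`.** -/
theorem isClosedImmersion_gq_restrict [IsSeparated f] (U : Z.Opens) (hU : X₀ ≤ U) (D : P.Opens)
    {E : Scheme.{u}} (eS : E ⟶ S) (β : U.toScheme ⟶ E) [IsClosedImmersion β]
    (hβ : β ≫ eS = U.ι ≫ f) (r : D.toScheme ⟶ E) (hr : r ≫ eS = D.ι ≫ s)
    (hcompat : (ψ ⁻¹ᵁ (pullback.snd f s ⁻¹ᵁ D)).ι ≫ Z.homOfLE hU ≫ β =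
      (ψ ∣_ (pullback.snd f s ⁻¹ᵁ D)) ≫ (pullback.snd f s ∣_ D) ≫ r) :
    IsClosedImmersion (gq f s X₀ ψ ∣_ D) := by
  let V : (pullback f s).Opens := pullback.snd f s ⁻¹ᵁ D
  let c₁ : pullback β r ⟶ U.toScheme := pullback.fst β r
  let c₂ : pullback β r ⟶ D.toScheme := pullback.snd β r
  haveI : IsClosedImmersion c₂ := MorphismProperty.pullback_snd (P := @IsClosedImmersion) β r
    inferInstance
  have hc : c₁ ≫ β = c₂ ≫ r := pullback.condition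
  have hcS : (c₁ ≫ U.ι) ≫ f = (c₂ ≫ D.ι) ≫ s := by
    rw [Category.assoc, ← hβ, ← Category.assoc, hc, Category.assoc, hr, Category.assoc]
  let κ₀ : pullback β r ⟶ pullback f s := pullback.lift (c₁ ≫ U.ι) (c₂ ≫ D.ι) hcS
  have hκ₀1 : κ₀ ≫ pullback.fst f s = c₁ ≫ U.ι := pullback.lift_fst _ _ _
  have hκ₀2 : κ₀ ≫ pullback.snd f s = c₂ ≫ D.ι := pullback.lift_snd _ _ _
  have hrange : Set.range κ₀ ⊆ Set.range V.ι := by
    rw [Scheme.Opens.range_ι]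
    rintro _ ⟨x, rfl⟩
    change (κ₀ ≫ pullback.snd f s) x ∈ D
    rw [hκ₀2]
    exact (c₂ x).2
  let κ : pullback β r ⟶ V.toScheme := IsOpenImmersion.lift V.ι κ₀ hrange
  have hκ : κ ≫ V.ι = κ₀ := IsOpenImmersion.lift_fac _ _ _
  have hκ2 : κ ≫ (pullback.snd f s ∣_ D) = c₂ := by
    rw [← cancel_mono D.ι, Category.assoc, morphismRestrict_ι, ← Category.assoc, hκ, hκ₀2]
  haveI : IsClosedImmersion (κ ≫ (pullback.snd f s ∣_ D)) := by rw [hκ2]; infer_instance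
  haveI : IsClosedImmersion κ := IsClosedImmersion.of_comp κ (pullback.snd f s ∣_ D)
  let a : (ψ ⁻¹ᵁ V).toScheme ⟶ pullback β r :=
    pullback.lift ((ψ ⁻¹ᵁ V).ι ≫ Z.homOfLE hU) ((ψ ∣_ V) ≫ (pullback.snd f s ∣_ D))
      (by rw [Category.assoc, Category.assoc]; exact hcompat)
  have ha1 : a ≫ c₁ = (ψ ⁻¹ᵁ V).ι ≫ Z.homOfLE hU := pullback.lift_fst _ _ _
  have ha2 : a ≫ c₂ = (ψ ∣_ V) ≫ (pullback.snd f s ∣_ D) := pullback.lift_snd _ _ _
  have ha : a ≫ κ = ψ ∣_ V := by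
    rw [← cancel_mono V.ι, Category.assoc, hκ, morphismRestrict_ι]
    apply pullback.hom_ext
    · rw [Category.assoc, hκ₀1, ← Category.assoc, ha1, Category.assoc, Scheme.homOfLE_ι,
        Category.assoc, hψ]
    · rw [Category.assoc, hκ₀2, ← Category.assoc, ha2, Category.assoc, morphismRestrict_ι,
        ← Category.assoc, morphismRestrict_ι, Category.assoc]
  obtain ⟨ℓ, hℓ, hℓκ⟩ := exists_lift_of_factor ψ V κ a ha
  have : gq f s X₀ ψ ∣_ D = ℓ ≫ c₂ := by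
    change (ψ.imageι ≫ pullback.snd f s) ∣_ D = _
    rw [morphismRestrict_comp]
    change ψ.imageι ∣_ V ≫ _ = _
    rw [← hℓκ, Category.assoc, hκ2]
  rw [this]
  exact @IsClosedImmersion.comp _ _ _ ℓ c₂ hℓ ‹IsClosedImmersion c₂›

lemma appLE_of_eq {X Y : Scheme.{u}} {g g' : X ⟶ Y} (h : g = g') (U : Y.Opens) (V : X.Opens)
    (e : V ≤ g ⁻¹ᵁ U) : g.appLE U V e = g'.appLE U V (h ▸ e) := by
  subst h; rfl

/-- **chart shifting: where the pull-back of `ρ ∈ Γ(P, D)` is invertible, the closure of the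
graph lies over the non-vanishing locus of `ρ`.** -/
theorem gπ_inf_gq_le (U : Z.Opens) (D D' : P.Opens) (ρ : Γ(P, D)) (hρ : P.basicOpen ρ ≤ D')
    (β : Γ(Z, U))
    (h : (ψ ≫ pullback.snd f s).appLE D
        (ψ ⁻¹ᵁ (pullback.fst f s ⁻¹ᵁ U ⊓ pullback.snd f s ⁻¹ᵁ D))
        (fun _ hx => hx.2) ρ *
      (ψ ≫ pullback.fst f s).appLE U
        (ψ ⁻¹ᵁ (pullback.fst f s ⁻¹ᵁ U ⊓ pullback.snd f s ⁻¹ᵁ D))
        (fun _ hx => hx.1) β = 1) :
    gπ f s X₀ ψ ⁻¹ᵁ U ⊓ gq f s X₀ ψ ⁻¹ᵁ D ≤ gq f s X₀ ψ ⁻¹ᵁ D' := by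
  let W : (pullback f s).Opens := pullback.fst f s ⁻¹ᵁ U ⊓ pullback.snd f s ⁻¹ᵁ D
  let O : (gcl f s X₀ ψ).Opens := ψ.imageι ⁻¹ᵁ W
  have hO : gπ f s X₀ ψ ⁻¹ᵁ U ⊓ gq f s X₀ ψ ⁻¹ᵁ D = O := rfl
  rw [hO]
  let ρO : Γ(gcl f s X₀ ψ, O) := (gq f s X₀ ψ).appLE D O (fun _ hx => hx.2) ρ
  let βO : Γ(gcl f s X₀ ψ, O) := (gπ f s X₀ ψ).appLE U O (fun _ hx => hx.1) β
  have hunit : ρO * βO = 1 := by
    apply toImage_app_injective' ψ W
    rw [map_mul, map_one]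
    have e : ψ.toImage ⁻¹ᵁ O = ψ ⁻¹ᵁ W := by
      change (ψ.toImage ≫ ψ.imageι) ⁻¹ᵁ W = _
      rw [ψ.toImage_imageι]
    have e1 : ψ.toImage ≫ gq f s X₀ ψ = ψ ≫ pullback.snd f s := by
      rw [← Category.assoc, ψ.toImage_imageι]
    have e2 : ψ.toImage ≫ gπ f s X₀ ψ = ψ ≫ pullback.fst f s := by
      rw [← Category.assoc, ψ.toImage_imageι]
    have h1 : (ψ.toImage.app O).hom ρO =
        (X₀.toScheme.presheaf.map (homOfLE e.le).op).hom
          ((ψ ≫ pullback.snd f s).appLE D (ψ ⁻¹ᵁ W) (fun _ hx => hx.2) ρ) := by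
      change ((gq f s X₀ ψ).appLE D O _ ≫ ψ.toImage.app O).hom ρ =
        ((ψ ≫ pullback.snd f s).appLE D (ψ ⁻¹ᵁ W) _ ≫ X₀.toScheme.presheaf.map _).hom ρ
      rw [Scheme.Hom.appLE_map, Scheme.Hom.app_eq_appLE, Scheme.Hom.appLE_comp_appLE,
        appLE_of_eq e1]
    have h2 : (ψ.toImage.app O).hom βO =
        (X₀.toScheme.presheaf.map (homOfLE e.le).op).hom
          ((ψ ≫ pullback.fst f s).appLE U (ψ ⁻¹ᵁ W) (fun _ hx => hx.1) β) := by
      change ((gπ f s X₀ ψ).appLE U O _ ≫ ψ.toImage.app O).hom β =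
        ((ψ ≫ pullback.fst f s).appLE U (ψ ⁻¹ᵁ W) _ ≫ X₀.toScheme.presheaf.map _).hom β
      rw [Scheme.Hom.appLE_map, Scheme.Hom.app_eq_appLE, Scheme.Hom.appLE_comp_appLE,
        appLE_of_eq e2]
    rw [h1, h2, ← map_mul, h, map_one]
  have hu : IsUnit ρO := IsUnit.of_mul_eq_one _ hunit
  have h3 := Scheme.basicOpen_of_isUnit _ hu
  have h4 : (gcl f s X₀ ψ).basicOpen ρO = O ⊓ gq f s X₀ ψ ⁻¹ᵁ (P.basicOpen ρ) :=
    Scheme.basicOpen_appLE _ _ _ _ _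
  rw [h3] at h4
  intro x hx
  have hx' : x ∈ O ⊓ gq f s X₀ ψ ⁻¹ᵁ (P.basicOpen ρ) := h4 ▸ hx
  exact hρ hx'.2

end Groth.Agent.LD.Chow
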