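import Groth.Agent.Lib.Lead.Chow.Main

/-! # Chow's lemma: existence of the data. -/

set_option autoImplicit false
universe u
open CategoryTheory Limits AlgebraicGeometry TopologicalSpace

namespace Groth.Agent.LD.Chow

variable {A : Type u} [CommRing A]

/-- an affine scheme of finite type over `A` has finitely many generating functions. -/
theorem exists_gens {Y : Scheme.{u}} [IsAffine Y] (h : Y ⟶ Spec (CommRingCat.of A))
    [LocallyOfFiniteType h] :
    ∃ (n : ℕ) (v : Fin n → Γ(Y, ⊤)),
      Function.Surjective (MvPolynomial.eval₂Hom (strOf A h) v) := by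
  have h1 : h.appTop.hom.FiniteType :=
    (HasRingHomProperty.iff_of_isAffine (P := @LocallyOfFiniteType)).mp inferInstance
  have h2 : (strOf A h).FiniteType := by
    unfold strOf
    refine h1.comp (RingHom.FiniteType.of_surjective _ ?_)
    exact (ConcreteCategory.bijective_of_isIso (Scheme.ΓSpecIso (CommRingCat.of A)).inv).2
  letI := (strOf A h).toAlgebra
  obtain ⟨n, g, hg⟩ := Algebra.FiniteType.iff_quotient_mvPolynomial''.mp h2
  refine ⟨n, fun l => g (MvPolynomial.X l), ?_⟩
  have : (MvPolynomial.eval₂Hom (strOf A h) (fun l => g (MvPolynomial.X l))) = g.toRingHom := by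
    apply MvPolynomial.ringHom_ext
    · intro a
      simp only [MvPolynomial.coe_eval₂Hom, MvPolynomial.eval₂_C]
      exact (g.commutes a).symm
    · intro l
      simp
  rw [this]
  exact hg

variable {Z : Scheme.{u}} (f : Z ⟶ Spec (CommRingCat.of A))

/-- **existence of Chow data** on an integral scheme of finite type over `A`. -/
theorem exists_chowData [IsIntegral Z] [LocallyOfFiniteType f] [CompactSpace Z] :
    ∃ d : ChowData f, (d.X₀ : Set Z).Nonempty := by
  classical
  -- a finite cover by nonempty affine opens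
  have hcov : (Set.univ : Set Z) ⊆ ⋃ U : Z.affineOpens, (U.1 : Set Z) := by
    intro x _
    have : x ∈ (⨆ U : Z.affineOpens, (U : Z.Opens)) := by
      rw [iSup_affineOpens_eq_top]; trivial
    obtain ⟨U, hU⟩ := Opens.mem_iSup.mp this
    exact Set.mem_iUnion.mpr ⟨U, hU⟩
  obtain ⟨t, ht⟩ := isCompact_univ.elim_finite_subcover (fun U : Z.affineOpens => (U.1 : Set Z))
    (fun U => U.1.2) hcov
  let t' := t.filter (fun U : Z.affineOpens => (U.1 : Set Z).Nonempty)
  let k := t'.card
  let eq : Fin k ≃ t' := t'.equivFin.symm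
  let U : Fin k → Z.Opens := fun i => (eq i).1.1
  have hUaff : ∀ i, IsAffineOpen (U i) := fun i => (eq i).1.2
  have hUne : ∀ i, (U i : Set Z).Nonempty := fun i => (Finset.mem_filter.mp (eq i).2).2
  have hUcov : ⨆ i, U i = ⊤ := by
    rw [eq_top_iff]
    intro x _
    obtain ⟨V, hV⟩ := Set.mem_iUnion.mp (ht (Set.mem_univ x))
    obtain ⟨hVt, hxV⟩ := Set.mem_iUnion.mp hV
    have hV' : V ∈ t' := Finset.mem_filter.mpr ⟨hVt, ⟨x, hxV⟩⟩
    refine Opens.mem_iSup.mpr ⟨eq.symm ⟨V, hV'⟩, ?_⟩
    change x ∈ ((eq (eq.symm ⟨V, hV'⟩)).1.1 : Z.Opens)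
    rw [Equiv.apply_symm_apply]
    exact hxV
  -- generators
  have hgen : ∀ i, ∃ (n : ℕ) (v : Fin n → Γ((U i).toScheme, ⊤)),
      Function.Surjective (MvPolynomial.eval₂Hom (strOf A ((U i).ι ≫ f)) v) := by
    intro i
    haveI : IsAffine (U i).toScheme := hUaff i
    exact exists_gens ((U i).ι ≫ f)
  choose m v hv using hgen
  -- the common open
  let X₀ : Z.Opens := Finset.univ.inf U
  have hX₀ : ∀ i, X₀ ≤ U i := fun i => Finset.inf_le (Finset.mem_univ i)
  have hη : genericPoint Z ∈ X₀ := by
    change genericPoint Z ∈ ((Finset.univ.inf U : Z.Opens) : Set Z)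
    rw [Opens.coe_finset_inf]
    simp only [Finset.inf_set_eq_iInter, Set.mem_iInter, Function.comp_apply]
    intro i _
    exact ((genericPoint_spec Z).mem_open_set_iff (U i).2).mpr
      (by simpa [Set.univ_inter] using hUne i)
  refine ⟨{ k := k, m := m, U := U, isAffineOpen := hUaff, iSup_U := hUcov
            b := fun i => Fin.cons 1 (fun l => (U i).topIso.hom.hom (v i l))
            b_zero := fun i => rfl
            b_surj := ?_
            X₀ := X₀
            le_U := hX₀ }, ⟨_, hη⟩⟩
  intro i
  convert hv i using 3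
  funext l
  simp only [Fin.cons_succ]
  exact congrArg (fun t => t.hom (v i l)) (U i).topIso.hom_inv_id

end Groth.Agent.LD.Chow
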