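import Mathlib

/-! # Kernels (ideal sheaves) of restricted morphisms and scheme-theoretic images. -/

set_option autoImplicit false
universe u
open CategoryTheory Limits AlgebraicGeometry TopologicalSpace

namespace Groth.Agent.LD.Chow

variable {X Y T : Scheme.{u}}

/-- if the section maps of `g` over preimages of affine opens are injective, then `g ≫ h` and `h`
have the same kernel. -/
lemma ker_comp_eq (g : X ⟶ Y) (h : Y ⟶ T) [QuasiCompact (g ≫ h)] [QuasiCompact h]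
    (hg : ∀ U : T.affineOpens, Function.Injective (g.app (h ⁻¹ᵁ U.1))) :
    (g ≫ h).ker = h.ker := by
  ext U : 2
  rw [Scheme.Hom.ker_apply, Scheme.Hom.ker_apply]
  ext x
  rw [RingHom.mem_ker, RingHom.mem_ker, Scheme.Hom.comp_app]
  change (g.app (h ⁻¹ᵁ U.1)).hom ((h.app U.1).hom x) = 0 ↔ _
  constructor
  · intro hx
    exact hg U (hx.trans (map_zero _).symm)
  · intro hx
    rw [hx, map_zero]

lemma ker_restrict_of_eq (ψ : X ⟶ T) (g : X ⟶ Y) (h : Y ⟶ T) (e : g ≫ h = ψ)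
    [QuasiCompact ψ] [QuasiCompact h] (V : T.Opens)
    (hg : ∀ U : T.affineOpens, Function.Injective (g.app (h ⁻¹ᵁ U.1))) :
    (ψ ∣_ V).ker = (h ∣_ V).ker := by
  subst e
  haveI hq : QuasiCompact ((g ≫ h) ∣_ V) := inferInstance
  rw [morphismRestrict_comp] at hq ⊢
  refine @ker_comp_eq _ _ _ (g ∣_ h ⁻¹ᵁ V) (h ∣_ V) hq inferInstance ?_
  intro U
  rw [morphismRestrict_app]
  have hU : IsAffineOpen (V.ι ''ᵁ U.1) := U.2.image_of_isOpenImmersion V.ι
  have h1 := hg ⟨V.ι ''ᵁ U.1, hU⟩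
  have h2 : (h ⁻¹ᵁ V).ι ''ᵁ ((h ∣_ V) ⁻¹ᵁ U.1) = h ⁻¹ᵁ (V.ι ''ᵁ U.1) :=
    image_morphismRestrict_preimage h V U.1
  change Function.Injective
    ((X.presheaf.map (eqToHom (image_morphismRestrict_preimage g (h ⁻¹ᵁ V)
      ((h ∣_ V) ⁻¹ᵁ U.1))).op).hom ∘ (g.app ((h ⁻¹ᵁ V).ι ''ᵁ (h ∣_ V) ⁻¹ᵁ U.1)).hom)
  refine Function.Injective.comp ?_ ?_
  · exact (ConcreteCategory.bijective_of_isIso
      (X.presheaf.map (eqToHom (image_morphismRestrict_preimage g (h ⁻¹ᵁ V)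
      ((h ∣_ V) ⁻¹ᵁ U.1))).op)).1
  · have : ∀ (O O' : Y.Opens) (e : O = O'), Function.Injective (g.app O') →
        Function.Injective (g.app O) := by
      intro O O' e hO; subst e; exact hO
    exact this _ _ h2 h1

/-- **the scheme-theoretic image commutes with restriction to opens (on the level of kernels).** -/
theorem ker_restrict_imageι (ψ : X ⟶ T) [QuasiCompact ψ] (V : T.Opens) :
    (ψ ∣_ V).ker = (ψ.imageι ∣_ V).ker :=
  ker_restrict_of_eq ψ ψ.toImage ψ.imageι ψ.toImage_imageι V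
    (fun U => ψ.toImage_app_injective U)

/-- sections of the scheme-theoretic image inject into sections of the source, over the preimage
of any open. -/
theorem toImage_app_injective' (ψ : X ⟶ T) [QuasiCompact ψ] (W : T.Opens) :
    Function.Injective (ψ.toImage.app (ψ.imageι ⁻¹ᵁ W)) := by
  rw [injective_iff_map_eq_zero]
  intro s hs
  let ι := {A : T.affineOpens // A.1 ≤ W}
  let Uc : ι → ψ.image.Opens := fun A => ψ.imageι ⁻¹ᵁ A.1.1
  have hle : ∀ A : ι, Uc A ≤ ψ.imageι ⁻¹ᵁ W := fun A => ψ.imageι.preimage_mono A.2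
  refine TopCat.Sheaf.eq_of_locally_eq' ψ.image.sheaf Uc (ψ.imageι ⁻¹ᵁ W)
    (fun A => homOfLE (hle A)) ?_ s 0 ?_
  · intro x hx
    obtain ⟨_, ⟨A, hA, rfl⟩, hxA, hAW⟩ :=
      T.isBasis_affineOpens.exists_subset_of_mem_open (show ψ.imageι x ∈ (W : Set T) from hx) W.2
    exact Opens.mem_iSup.mpr ⟨⟨⟨A, hA⟩, hAW⟩, hxA⟩
  · intro A
    rw [map_zero]
    apply ψ.toImage_app_injective A.1
    refine Eq.trans ?_ (map_zero _).symm
    have h := ψ.toImage.naturality (homOfLE (hle A)).op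
    have h2 := congr($(h) s)
    change (ψ.toImage.app (Uc A)).hom ((ψ.image.presheaf.map (homOfLE (hle A)).op).hom s) = 0
    change _ = (X.presheaf.map _).hom ((ψ.toImage.app (ψ.imageι ⁻¹ᵁ W)).hom s) at h2
    rw [hs, map_zero] at h2
    exact h2

/-- if `ψ ∣_ V` factors through a closed immersion `κ : C ⟶ V`, then so does the restriction of
the scheme-theoretic image of `ψ`, through a closed immersion. -/
theorem exists_lift_of_factor (ψ : X ⟶ T) [QuasiCompact ψ] (V : T.Opens) {C : Scheme.{u}}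
    (κ : C ⟶ V.toScheme) [IsClosedImmersion κ] (a : (ψ ⁻¹ᵁ V).toScheme ⟶ C)
    (ha : a ≫ κ = ψ ∣_ V) :
    ∃ ℓ : (ψ.imageι ⁻¹ᵁ V).toScheme ⟶ C, IsClosedImmersion ℓ ∧ ℓ ≫ κ = ψ.imageι ∣_ V := by
  have H : κ.ker ≤ (ψ.imageι ∣_ V).ker := by
    rw [← ker_restrict_imageι, ← ha]
    exact Scheme.Hom.le_ker_comp a κ
  refine ⟨IsClosedImmersion.lift κ (ψ.imageι ∣_ V) H, ?_, IsClosedImmersion.lift_fac _ _ H⟩
  haveI : IsClosedImmersion (IsClosedImmersion.lift κ (ψ.imageι ∣_ V) H ≫ κ) := by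
    rw [IsClosedImmersion.lift_fac]; infer_instance
  exact IsClosedImmersion.of_comp (IsClosedImmersion.lift κ (ψ.imageι ∣_ V) H) κ

/-- if `ψ ∣_ V` is (up to an isomorphism of the source) a closed immersion `κ`, then the
restriction of the scheme-theoretic image over `V` is `κ` itself. -/
theorem exists_iso_of_factor (ψ : X ⟶ T) [QuasiCompact ψ] (V : T.Opens) {C : Scheme.{u}}
    (κ : C ⟶ V.toScheme) [IsClosedImmersion κ] (a : (ψ ⁻¹ᵁ V).toScheme ⟶ C) [IsIso a]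
    (ha : a ≫ κ = ψ ∣_ V) :
    ∃ ℓ : (ψ.imageι ⁻¹ᵁ V).toScheme ⟶ C, IsIso ℓ ∧ ℓ ≫ κ = ψ.imageι ∣_ V := by
  have H : (ψ.imageι ∣_ V).ker = κ.ker := by
    rw [← ker_restrict_imageι, ← ha]
    exact Scheme.Hom.ker_comp_of_isIso a κ
  refine ⟨IsClosedImmersion.lift κ (ψ.imageι ∣_ V) H.ge, ?_, IsClosedImmersion.lift_fac _ _ H.ge⟩
  exact IsClosedImmersion.isIso_of_ker_eq (ψ.imageι ∣_ V) κ _
    (IsClosedImmersion.lift_fac _ _ H.ge) H

end Groth.Agent.LD.Chow
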