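import Groth.Agent.Lib.Lead.Chow.Charts

/-! # Chow's lemma: the main theorem for given data. -/

set_option autoImplicit false
universe u
open CategoryTheory Limits AlgebraicGeometry TopologicalSpace

namespace Groth.Agent.LD.Chow

variable {A : Type u} [CommRing A] {Z : Scheme.{u}} {f : Z ⟶ Spec (CommRingCat.of A)}

namespace ChowData

variable (d : ChowData f)

/-- the closure of the graph is covered by the preimages of the good charts. -/
lemma exists_good_chart [QuasiCompact d.ψ] (z : gcl f (pStr d.N A) d.X₀ d.ψ) :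
    ∃ (j : Fin (d.N + 1)) (i : Fin d.k), d.e j i = 0 ∧
      gq f (pStr d.N A) d.X₀ d.ψ z ∈ d.D j := by
  have h1 : gπ f (pStr d.N A) d.X₀ d.ψ z ∈ (⨆ i, d.U i : Z.Opens) := by
    rw [d.iSup_U]; trivial
  obtain ⟨i, hi⟩ := Opens.mem_iSup.mp h1
  have h2 : gq f (pStr d.N A) d.X₀ d.ψ z ∈ (⨆ j, d.D j : (Proj (CohB1.polyGrading d.N A)).Opens) := by
    rw [d.iSup_D]; trivial
  obtain ⟨j, hj⟩ := Opens.mem_iSup.mp h2
  refine ⟨d.e.symm (Function.update (d.e j) i 0), i, ?_, ?_⟩
  · rw [Equiv.apply_symm_apply, Function.update_self]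
  · exact d.gπ_inf_gq_D_le i j ⟨hi, hj⟩

/-- **Chow's lemma, closed immersion part**: if `f` is separated and universally closed, the
closure of the graph maps to projective space by a closed immersion. -/
theorem isClosedImmersion_gq [QuasiCompact d.ψ] [IsSeparated f] [UniversallyClosed f] :
    IsClosedImmersion (gq f (pStr d.N A) d.X₀ d.ψ) := by
  classical
  haveI : UniversallyClosed (pullback.snd f (pStr d.N A)) :=
    MorphismProperty.pullback_snd (P := @UniversallyClosed) _ _ inferInstance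
  have hclosed : IsClosed (Set.range (gq f (pStr d.N A) d.X₀ d.ψ)) :=
    (gq f (pStr d.N A) d.X₀ d.ψ).isClosedMap.isClosed_range
  let V₀ : (Proj (CohB1.polyGrading d.N A)).Opens :=
    ⟨(Set.range (gq f (pStr d.N A) d.X₀ d.ψ))ᶜ, hclosed.isOpen_compl⟩
  let ι := Option {j : Fin (d.N + 1) // ∃ i, d.e j i = 0}
  let V : ι → (Proj (CohB1.polyGrading d.N A)).Opens := fun o => o.elim V₀ (fun j => d.D j.1)
  apply IsZariskiLocalAtTarget.of_iSup_eq_top (P := @IsClosedImmersion) V
  · rw [eq_top_iff]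
    intro x _
    by_cases hx : x ∈ Set.range (gq f (pStr d.N A) d.X₀ d.ψ)
    · obtain ⟨z, rfl⟩ := hx
      obtain ⟨j, i, hji, hz⟩ := d.exists_good_chart z
      exact Opens.mem_iSup.mpr ⟨some ⟨j, i, hji⟩, hz⟩
    · exact Opens.mem_iSup.mpr ⟨none, hx⟩
  · rintro (_ | ⟨j, i, hji⟩)
    · haveI : IsEmpty ((gq f (pStr d.N A) d.X₀ d.ψ) ⁻¹ᵁ V none).toScheme := by
        constructor
        rintro ⟨z, hz⟩
        exact hz ⟨z, rfl⟩
      infer_instance
    · exact d.isClosedImmersion_gq_restrict_D i j hji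

/-- the projection to `Z` is an isomorphism over `X₀`. -/
theorem isIso_gπ_restrict [QuasiCompact d.ψ] :
    IsIso (gπ f (pStr d.N A) d.X₀ d.ψ ∣_ d.X₀) :=
  Chow.isIso_gπ_restrict f (pStr d.N A) d.X₀ d.ψ d.ψ_fst

end ChowData

end Groth.Agent.LD.Chow
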