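import Groth.Agent.Lib.Lead.Chow.Chart
import Groth.Agent.Lib.Lead.Chow.ProjAPI
import Groth.Agent.Lib.Lead.PN.Main

/-! # Chow's lemma: the data and the rational map to projective space. -/

set_option autoImplicit false
universe u
open CategoryTheory Limits AlgebraicGeometry TopologicalSpace

namespace Groth.Agent.LD.Chow

/-- the structure morphism of projective space, on `Proj`. -/
noncomputable def pStr (N : ℕ) (A : Type u) [CommRing A] :
    Proj (CohB1.polyGrading N A) ⟶ Spec (CommRingCat.of A) :=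
  Proj.toSpecZero (CohB1.polyGrading N A) ≫
    Spec.map (CommRingCat.ofHom (algebraMap A (CohB1.polyGrading N A 0)))

lemma pStr_eq (N : ℕ) (A : Type u) [CommRing A] : pStr N A = CohB1.ProjSpace.toSpec N A := rfl

instance (N : ℕ) (A : Type u) [CommRing A] : IsSeparated (pStr N A) := by
  unfold pStr
  infer_instance

variable {A : Type u} [CommRing A] {Z : Scheme.{u}} (f : Z ⟶ Spec (CommRingCat.of A))

/-- the data for Chow's construction: a finite affine open cover `U i` of `Z`, generators
`b i l` of the ring of each `U i` over `A` (with `b i 0 = 1`), and an open `X₀` contained in all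
the `U i`. -/
structure ChowData where
  k : ℕ
  m : Fin k → ℕ
  U : Fin k → Z.Opens
  isAffineOpen : ∀ i, IsAffineOpen (U i)
  iSup_U : ⨆ i, U i = ⊤
  b : ∀ i, Fin (m i + 1) → Γ(Z, U i)
  b_zero : ∀ i, b i 0 = 1
  b_surj : ∀ i, Function.Surjective (MvPolynomial.eval₂Hom (strOf A ((U i).ι ≫ f))
    (fun l : Fin (m i) => (U i).topIso.inv.hom (b i l.succ)))
  X₀ : Z.Opens
  le_U : ∀ i, X₀ ≤ U i

namespace ChowData

variable {f} (d : ChowData f)

/-- the index set of the monomial coordinates. -/
abbrev W : Type := (i : Fin d.k) → Fin (d.m i + 1)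

instance : Nonempty d.W := ⟨fun _ => 0⟩

/-- the dimension of the projective space. -/
noncomputable def N : ℕ := Fintype.card d.W - 1

lemma N_add_one : d.N + 1 = Fintype.card d.W := by
  have : 0 < Fintype.card d.W := Fintype.card_pos
  unfold N; omega

/-- numbering of the coordinates. -/
noncomputable def e : Fin (d.N + 1) ≃ d.W :=
  (finCongr d.N_add_one).trans (Fintype.equivFin d.W).symm

lemma top_le (i : Fin d.k) : (⊤ : d.X₀.toScheme.Opens) ≤ d.X₀.ι ⁻¹ᵁ d.U i := by
  intro x _
  exact d.le_U i x.2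

/-- the generators restricted to `X₀`. -/
noncomputable def cX (i : Fin d.k) (l : Fin (d.m i + 1)) : Γ(d.X₀.toScheme, ⊤) :=
  (d.X₀.ι.appLE (d.U i) ⊤ (d.top_le i)).hom (d.b i l)

lemma cX_zero (i : Fin d.k) : d.cX i 0 = 1 := by
  rw [cX, d.b_zero, map_one]

/-- the monomial coordinates. -/
noncomputable def zW (w : d.W) : Γ(d.X₀.toScheme, ⊤) := ∏ i, d.cX i (w i)

lemma zW_zero : d.zW (fun _ => 0) = 1 := by
  unfold zW
  exact Finset.prod_eq_one fun i _ => d.cX_zero i

lemma zW_update (w : d.W) (i : Fin d.k) (l : Fin (d.m i + 1)) :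
    d.zW (Function.update w i l) * d.cX i (w i) = d.zW w * d.cX i l := by
  classical
  unfold zW
  rw [← Finset.mul_prod_erase Finset.univ (fun i' => d.cX i' (Function.update w i l i'))
      (Finset.mem_univ i),
    ← Finset.mul_prod_erase Finset.univ (fun i' => d.cX i' (w i')) (Finset.mem_univ i),
    Function.update_self]
  have : ∏ x ∈ Finset.univ.erase i, d.cX x (Function.update w i l x) =
      ∏ x ∈ Finset.univ.erase i, d.cX x (w x) := by
    refine Finset.prod_congr rfl fun x hx => ?_
    rw [Function.update_of_ne (Finset.ne_of_mem_erase hx)]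
  rw [this]
  ring

/-- the ring map defining the rational map to projective space. -/
noncomputable def g : MvPolynomial (Fin (d.N + 1)) A →+* Γ(d.X₀.toScheme, ⊤) :=
  MvPolynomial.eval₂Hom (strOf A (d.X₀.ι ≫ f)) (fun j => d.zW (d.e j))

lemma g_X (j : Fin (d.N + 1)) : d.g (MvPolynomial.X j) = d.zW (d.e j) := by
  simp [g]

lemma g_C (a : A) : d.g (MvPolynomial.C a) = strOf A (d.X₀.ι ≫ f) a := by
  simp [g]

lemma hg : (HomogeneousIdeal.irrelevant (CohB1.polyGrading d.N A)).toIdeal.map d.g = ⊤ := by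
  rw [Ideal.eq_top_iff_one]
  have h1 : d.g (MvPolynomial.X (d.e.symm (fun _ => 0))) = 1 := by
    rw [g_X, Equiv.apply_symm_apply, zW_zero]
  rw [← h1]
  apply Ideal.mem_map_of_mem
  rw [PN.irrelevant_eq_span]
  exact Ideal.subset_span ⟨_, rfl⟩

/-- the morphism from `X₀` to projective space. -/
noncomputable def φ : d.X₀.toScheme ⟶ Proj (CohB1.polyGrading d.N A) :=
  Proj.fromOfGlobalSections (CohB1.polyGrading d.N A) d.g d.hg

lemma φ_toSpec : d.φ ≫ pStr d.N A = d.X₀.ι ≫ f := by
  unfold φ pStr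
  rw [Proj.fromOfGlobalSections_toSpecZero_assoc, ← Spec.map_comp, ← CommRingCat.ofHom_comp]
  have : (d.g.comp (algebraMap (CohB1.polyGrading d.N A 0) (MvPolynomial (Fin (d.N + 1)) A))).comp
      (algebraMap A (CohB1.polyGrading d.N A 0)) = strOf A (d.X₀.ι ≫ f) := by
    ext a
    exact d.g_C a
  rw [this, toSpecΓ_strOf]

/-- the graph of the rational map. -/
noncomputable def ψ : d.X₀.toScheme ⟶ pullback f (pStr d.N A) :=
  pullback.lift d.X₀.ι d.φ d.φ_toSpec.symm

lemma ψ_fst : d.ψ ≫ pullback.fst f (pStr d.N A) = d.X₀.ι :=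
  pullback.lift_fst _ _ _

lemma ψ_snd : d.ψ ≫ pullback.snd f (pStr d.N A) = d.φ :=
  pullback.lift_snd _ _ _

end ChowData

end Groth.Agent.LD.Chow
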